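import Cfsg.Agent.Lib.Id.Co1.D
import Cfsg.Agent.Lib.Grp.Co1.Defs

/-! The action of a generator on the minimal vectors. -/

set_option autoImplicit false
set_option maxRecDepth 100000
set_option Elab.async false

namespace Cfsg.Agent.Id.Co1

open Cfsg.Agent.CG Cfsg.Spor
open scoped Pointwise

theorem chkB0 : allRange (chkLet (tab2 TT) 24 (appB CG.Co1.tabs CG.Co1.t60 0xffffff) 1 lB 0x40844c4800444438444843c00 0x48043c4088444450444044c80) 0 8000 = true := by decide +kernel
theorem chkB1 : allRange (chkLet (tab2 TT) 24 (appB CG.Co1.tabs CG.Co1.t60 0xffffff) 1 lB 0x40844c4800444438444843c00 0x48043c4088444450444044c80) 8000 8000 = true := by decide +kernel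
theorem chkB2 : allRange (chkLet (tab2 TT) 24 (appB CG.Co1.tabs CG.Co1.t60 0xffffff) 1 lB 0x40844c4800444438444843c00 0x48043c4088444450444044c80) 16000 8000 = true := by decide +kernel
theorem chkB3 : allRange (chkLet (tab2 TT) 24 (appB CG.Co1.tabs CG.Co1.t60 0xffffff) 1 lB 0x40844c4800444438444843c00 0x48043c4088444450444044c80) 24000 8000 = true := by decide +kernel
theorem chkB4 : allRange (chkLet (tab2 TT) 24 (appB CG.Co1.tabs CG.Co1.t60 0xffffff) 1 lB 0x40844c4800444438444843c00 0x48043c4088444450444044c80) 32000 8000 = true := by decide +kernel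
theorem chkB5 : allRange (chkLet (tab2 TT) 24 (appB CG.Co1.tabs CG.Co1.t60 0xffffff) 1 lB 0x40844c4800444438444843c00 0x48043c4088444450444044c80) 40000 8000 = true := by decide +kernel
theorem chkB6 : allRange (chkLet (tab2 TT) 24 (appB CG.Co1.tabs CG.Co1.t60 0xffffff) 1 lB 0x40844c4800444438444843c00 0x48043c4088444450444044c80) 48000 8000 = true := by decide +kernel
theorem chkB7 : allRange (chkLet (tab2 TT) 24 (appB CG.Co1.tabs CG.Co1.t60 0xffffff) 1 lB 0x40844c4800444438444843c00 0x48043c4088444450444044c80) 56000 8000 = true := by decide +kernel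
theorem chkB8 : allRange (chkLet (tab2 TT) 24 (appB CG.Co1.tabs CG.Co1.t60 0xffffff) 1 lB 0x40844c4800444438444843c00 0x48043c4088444450444044c80) 64000 8000 = true := by decide +kernel
theorem chkB9 : allRange (chkLet (tab2 TT) 24 (appB CG.Co1.tabs CG.Co1.t60 0xffffff) 1 lB 0x40844c4800444438444843c00 0x48043c4088444450444044c80) 72000 8000 = true := by decide +kernel
theorem chkB10 : allRange (chkLet (tab2 TT) 24 (appB CG.Co1.tabs CG.Co1.t60 0xffffff) 1 lB 0x40844c4800444438444843c00 0x48043c4088444450444044c80) 80000 8000 = true := by decide +kernel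
theorem chkB11 : allRange (chkLet (tab2 TT) 24 (appB CG.Co1.tabs CG.Co1.t60 0xffffff) 1 lB 0x40844c4800444438444843c00 0x48043c4088444450444044c80) 88000 8000 = true := by decide +kernel
theorem chkB12 : allRange (chkLet (tab2 TT) 24 (appB CG.Co1.tabs CG.Co1.t60 0xffffff) 1 lB 0x40844c4800444438444843c00 0x48043c4088444450444044c80) 96000 2280 = true := by decide +kernel

theorem chkB : allLt (chkLet (tab2 TT) 24 (appB CG.Co1.tabs CG.Co1.t60 0xffffff) 1 lB 0x40844c4800444438444843c00 0x48043c4088444450444044c80) 98280 = true :=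
  allLt_of_allRange (rapp (allRange (chkLet (tab2 TT) 24 (appB CG.Co1.tabs CG.Co1.t60 0xffffff) 1 lB 0x40844c4800444438444843c00 0x48043c4088444450444044c80)) (fun _ _ _ => allRange_append) 98280 (rapp (allRange (chkLet (tab2 TT) 24 (appB CG.Co1.tabs CG.Co1.t60 0xffffff) 1 lB 0x40844c4800444438444843c00 0x48043c4088444450444044c80)) (fun _ _ _ => allRange_append) 96000 (rapp (allRange (chkLet (tab2 TT) 24 (appB CG.Co1.tabs CG.Co1.t60 0xffffff) 1 lB 0x40844c4800444438444843c00 0x48043c4088444450444044c80)) (fun _ _ _ => allRange_append) 88000 (rapp (allRange (chkLet (tab2 TT) 24 (appB CG.Co1.tabs CG.Co1.t60 0xffffff) 1 lB 0x40844c4800444438444843c00 0x48043c4088444450444044c80)) (fun _ _ _ => allRange_append) 80000 (rapp (allRange (chkLet (tab2 TT) 24 (appB CG.Co1.tabs CG.Co1.t60 0xffffff) 1 lB 0x40844c4800444438444843c00 0x48043c4088444450444044c80)) (fun _ _ _ => allRange_append) 72000 (rapp (allRange (chkLet (tab2 TT) 24 (appB CG.Co1.tabs CG.Co1.t60 0xffffff) 1 lB 0x40844c4800444438444843c00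 0x48043c4088444450444044c80)) (fun _ _ _ => allRange_append) 64000 (rapp (allRange (chkLet (tab2 TT) 24 (appB CG.Co1.tabs CG.Co1.t60 0xffffff) 1 lB 0x40844c4800444438444843c00 0x48043c4088444450444044c80)) (fun _ _ _ => allRange_append) 56000 (rapp (allRange (chkLet (tab2 TT) 24 (appB CG.Co1.tabs CG.Co1.t60 0xffffff) 1 lB 0x40844c4800444438444843c00 0x48043c4088444450444044c80)) (fun _ _ _ => allRange_append) 48000 (rapp (allRange (chkLet (tab2 TT) 24 (appB CG.Co1.tabs CG.Co1.t60 0xffffff) 1 lB 0x40844c4800444438444843c00 0x48043c4088444450444044c80)) (fun _ _ _ => allRange_append) 40000 (rapp (allRange (chkLet (tab2 TT) 24 (appB CG.Co1.tabs CG.Co1.t60 0xffffff) 1 lB 0x40844c4800444438444843c00 0x48043c4088444450444044c80)) (fun _ _ _ => allRange_append) 32000 (rapp (allRange (chkLet (tab2 TT) 24 (appB CG.Co1.tabs CG.Co1.t60 0xffffff) 1 lB 0x40844c4800444438444843c00 0x48043c4088444450444044c80)) (fun _ _ _ => allRange_append) 24000 (rapp (allRange (chkLet (tab2 TT) 24 (appB CG.Co1.tabs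 CG.Co1.t60 0xffffff) 1 lB 0x40844c4800444438444843c00 0x48043c4088444450444044c80)) (fun _ _ _ => allRange_append) 16000 chkB0 chkB1 rfl rfl) chkB2 rfl rfl) chkB3 rfl rfl) chkB4 rfl rfl) chkB5 rfl rfl) chkB6 rfl rfl) chkB7 rfl rfl) chkB8 rfl rfl) chkB9 rfl rfl) chkB10 rfl rfl) chkB11 rfl rfl) chkB12 rfl rfl)

end Cfsg.Agent.Id.Co1
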