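import Cfsg.Agent.Lib.Id.Co1.D
import Cfsg.Agent.Lib.Grp.Co1.Defs

/-! The table is sorted; an element with a unique fixed point. -/

set_option autoImplicit false
set_option maxRecDepth 100000
set_option Elab.async false

namespace Cfsg.Agent.Id.Co1

open Cfsg.Agent.CG Cfsg.Spor
open scoped Pointwise

theorem srt0 : allRange (fun j => blt (tab2 TT j) (tab2 TT (Nat.succ j))) 0 33000 = true := by decide +kernel
theorem srt1 : allRange (fun j => blt (tab2 TT j) (tab2 TT (Nat.succ j))) 33000 33000 = true := by decide +kernel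
theorem srt2 : allRange (fun j => blt (tab2 TT j) (tab2 TT (Nat.succ j))) 66000 32279 = true := by decide +kernel

theorem srt : allLt (fun j => blt (tab2 TT j) (tab2 TT (Nat.succ j))) 98279 = true :=
  allLt_of_allRange (rapp (allRange (fun j => blt (tab2 TT j) (tab2 TT (Nat.succ j)))) (fun _ _ _ => allRange_append) 98279 (rapp (allRange (fun j => blt (tab2 TT j) (tab2 TT (Nat.succ j)))) (fun _ _ _ => allRange_append) 66000 srt0 srt1 rfl rfl) srt2 rfl rfl)

theorem fix0 : allRange (chkFix1 24 (appB CG.Co1.tabs CG.Co1.t60 0xffffff) 11 65095) 0 33000 = true := by decide +kernel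
theorem fix1 : allRange (chkFix1 24 (appB CG.Co1.tabs CG.Co1.t60 0xffffff) 11 65095) 33000 33000 = true := by decide +kernel
theorem fix2 : allRange (chkFix1 24 (appB CG.Co1.tabs CG.Co1.t60 0xffffff) 11 65095) 66000 32280 = true := by decide +kernel

theorem fix : allLt (chkFix1 24 (appB CG.Co1.tabs CG.Co1.t60 0xffffff) 11 65095) 98280 = true :=
  allLt_of_allRange (rapp (allRange (chkFix1 24 (appB CG.Co1.tabs CG.Co1.t60 0xffffff) 11 65095)) (fun _ _ _ => allRange_append) 98280 (rapp (allRange (chkFix1 24 (appB CG.Co1.tabs CG.Co1.t60 0xffffff) 11 65095)) (fun _ _ _ => allRange_append) 66000 fix0 fix1 rfl rfl) fix2 rfl rfl)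

end Cfsg.Agent.Id.Co1
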