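import Cfsg.Agent.Lib.Id.Co1.D
import Cfsg.Agent.Lib.Grp.Co1.Defs

/-! The action of a generator on the minimal vectors. -/

set_option autoImplicit false
set_option maxRecDepth 100000
set_option Elab.async false

namespace Cfsg.Agent.Id.Co1

open Cfsg.Agent.CG Cfsg.Spor
open scoped Pointwise

theorem chkA0 : allRange (chkLet (tab2 TT) 24 (appB CG.Co1.tabs CG.Co1.t60 0xffffff) 0 lA 0x40043c3c04004050404444440 0x48844c4c84884838484444440) 0 8000 = true := by decide +kernel
theorem chkA1 : allRange (chkLet (tab2 TT) 24 (appB CG.Co1.tabs CG.Co1.t60 0xffffff) 0 lA 0x40043c3c04004050404444440 0x48844c4c84884838484444440) 8000 8000 = true := by decide +kernel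
theorem chkA2 : allRange (chkLet (tab2 TT) 24 (appB CG.Co1.tabs CG.Co1.t60 0xffffff) 0 lA 0x40043c3c04004050404444440 0x48844c4c84884838484444440) 16000 8000 = true := by decide +kernel
theorem chkA3 : allRange (chkLet (tab2 TT) 24 (appB CG.Co1.tabs CG.Co1.t60 0xffffff) 0 lA 0x40043c3c04004050404444440 0x48844c4c84884838484444440) 24000 8000 = true := by decide +kernel
theorem chkA4 : allRange (chkLet (tab2 TT) 24 (appB CG.Co1.tabs CG.Co1.t60 0xffffff) 0 lA 0x40043c3c04004050404444440 0x48844c4c84884838484444440) 32000 8000 = true := by decide +kernel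
theorem chkA5 : allRange (chkLet (tab2 TT) 24 (appB CG.Co1.tabs CG.Co1.t60 0xffffff) 0 lA 0x40043c3c04004050404444440 0x48844c4c84884838484444440) 40000 8000 = true := by decide +kernel
theorem chkA6 : allRange (chkLet (tab2 TT) 24 (appB CG.Co1.tabs CG.Co1.t60 0xffffff) 0 lA 0x40043c3c04004050404444440 0x48844c4c84884838484444440) 48000 8000 = true := by decide +kernel
theorem chkA7 : allRange (chkLet (tab2 TT) 24 (appB CG.Co1.tabs CG.Co1.t60 0xffffff) 0 lA 0x40043c3c04004050404444440 0x48844c4c84884838484444440) 56000 8000 = true := by decide +kernel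
theorem chkA8 : allRange (chkLet (tab2 TT) 24 (appB CG.Co1.tabs CG.Co1.t60 0xffffff) 0 lA 0x40043c3c04004050404444440 0x48844c4c84884838484444440) 64000 8000 = true := by decide +kernel
theorem chkA9 : allRange (chkLet (tab2 TT) 24 (appB CG.Co1.tabs CG.Co1.t60 0xffffff) 0 lA 0x40043c3c04004050404444440 0x48844c4c84884838484444440) 72000 8000 = true := by decide +kernel
theorem chkA10 : allRange (chkLet (tab2 TT) 24 (appB CG.Co1.tabs CG.Co1.t60 0xffffff) 0 lA 0x40043c3c04004050404444440 0x48844c4c84884838484444440) 80000 8000 = true := by decide +kernel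
theorem chkA11 : allRange (chkLet (tab2 TT) 24 (appB CG.Co1.tabs CG.Co1.t60 0xffffff) 0 lA 0x40043c3c04004050404444440 0x48844c4c84884838484444440) 88000 8000 = true := by decide +kernel
theorem chkA12 : allRange (chkLet (tab2 TT) 24 (appB CG.Co1.tabs CG.Co1.t60 0xffffff) 0 lA 0x40043c3c04004050404444440 0x48844c4c84884838484444440) 96000 2280 = true := by decide +kernel

theorem chkA : allLt (chkLet (tab2 TT) 24 (appB CG.Co1.tabs CG.Co1.t60 0xffffff) 0 lA 0x40043c3c04004050404444440 0x48844c4c84884838484444440) 98280 = true :=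
  allLt_of_allRange (rapp (allRange (chkLet (tab2 TT) 24 (appB CG.Co1.tabs CG.Co1.t60 0xffffff) 0 lA 0x40043c3c04004050404444440 0x48844c4c84884838484444440)) (fun _ _ _ => allRange_append) 98280 (rapp (allRange (chkLet (tab2 TT) 24 (appB CG.Co1.tabs CG.Co1.t60 0xffffff) 0 lA 0x40043c3c04004050404444440 0x48844c4c84884838484444440)) (fun _ _ _ => allRange_append) 96000 (rapp (allRange (chkLet (tab2 TT) 24 (appB CG.Co1.tabs CG.Co1.t60 0xffffff) 0 lA 0x40043c3c04004050404444440 0x48844c4c84884838484444440)) (fun _ _ _ => allRange_append) 88000 (rapp (allRange (chkLet (tab2 TT) 24 (appB CG.Co1.tabs CG.Co1.t60 0xffffff) 0 lA 0x40043c3c04004050404444440 0x48844c4c84884838484444440)) (fun _ _ _ => allRange_append) 80000 (rapp (allRange (chkLet (tab2 TT) 24 (appB CG.Co1.tabs CG.Co1.t60 0xffffff) 0 lA 0x40043c3c04004050404444440 0x48844c4c84884838484444440)) (fun _ _ _ => allRange_append) 72000 (rapp (allRange (chkLet (tab2 TT) 24 (appB CG.Co1.tabs CG.Co1.t60 0xffffff) 0 lA 0x40043c3c04004050404444440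 0x48844c4c84884838484444440)) (fun _ _ _ => allRange_append) 64000 (rapp (allRange (chkLet (tab2 TT) 24 (appB CG.Co1.tabs CG.Co1.t60 0xffffff) 0 lA 0x40043c3c04004050404444440 0x48844c4c84884838484444440)) (fun _ _ _ => allRange_append) 56000 (rapp (allRange (chkLet (tab2 TT) 24 (appB CG.Co1.tabs CG.Co1.t60 0xffffff) 0 lA 0x40043c3c04004050404444440 0x48844c4c84884838484444440)) (fun _ _ _ => allRange_append) 48000 (rapp (allRange (chkLet (tab2 TT) 24 (appB CG.Co1.tabs CG.Co1.t60 0xffffff) 0 lA 0x40043c3c04004050404444440 0x48844c4c84884838484444440)) (fun _ _ _ => allRange_append) 40000 (rapp (allRange (chkLet (tab2 TT) 24 (appB CG.Co1.tabs CG.Co1.t60 0xffffff) 0 lA 0x40043c3c04004050404444440 0x48844c4c84884838484444440)) (fun _ _ _ => allRange_append) 32000 (rapp (allRange (chkLet (tab2 TT) 24 (appB CG.Co1.tabs CG.Co1.t60 0xffffff) 0 lA 0x40043c3c04004050404444440 0x48844c4c84884838484444440)) (fun _ _ _ => allRange_append) 24000 (rapp (allRange (chkLet (tab2 TT) 24 (appB CG.Co1.tabs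 CG.Co1.t60 0xffffff) 0 lA 0x40043c3c04004050404444440 0x48844c4c84884838484444440)) (fun _ _ _ => allRange_append) 16000 chkA0 chkA1 rfl rfl) chkA2 rfl rfl) chkA3 rfl rfl) chkA4 rfl rfl) chkA5 rfl rfl) chkA6 rfl rfl) chkA7 rfl rfl) chkA8 rfl rfl) chkA9 rfl rfl) chkA10 rfl rfl) chkA11 rfl rfl) chkA12 rfl rfl)

end Cfsg.Agent.Id.Co1
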